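import Cfsg.Agent.Lib.Helper18.Bruhat1
import Cfsg.Agent.Lib.Helper18.Borel
import Cfsg.Agent.Lib.Helper40.WCCoord
import Cfsg.Agent.S1045
import Mathlib

/-!
# S2318-[C-NONDEG] (project of helper82): linear characters of `U` with prescribed restrictions to the fundamental
root groups and trivial on the other positive root groups.
-/

set_option autoImplicit false

namespace Cfsg.Agent.Lib.Helper5.StChev

open Cfsg Cfsg.Lie Cfsg.Agent.Lib.Helper18

universe u
variable {F : Type u} [Field F] {D : ChevalleyDatum}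

theorem exists_char_of_simple (hD : D ∈ [chevG2, chevB2, chevD4, chevF4, chevE6, chevE7, chevE8])
    (ξ : ℕ → AddChar F ℂ) :
    ∃ ψ : ↥(D.posUnipotent F) →* ℂˣ, ∀ (s : ℕ) (t : F) (hs : D.IsPosRoot s),
      ((ψ ⟨xG hD s t, xG_mem_posUnipotent hD s t hs⟩ : ℂˣ) : ℂ) =
        ∏ i ∈ Finset.range D.rank, if s = D.simple i then ξ i t else 1 := by
  classical
  choose χ hχadd hχx _ _ using
    fun i : Fin D.rank => Cfsg.Agent.Lib.Helper40.WC.exists_coord (F := F) hD i i.2
  have hχ1 : ∀ i, χ i 1 = 0 := by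
    intro i
    have := hχadd i 1 (one_mem _) 1 (one_mem _)
    rw [mul_one] at this
    linear_combination -this
  let η : ℕ → Multiplicative F →* ℂˣ := fun i => (ξ i).toMonoidHom.toHomUnits
  have hη : ∀ i (t : F), ((η i (Multiplicative.ofAdd t) : ℂˣ) : ℂ) = ξ i t := by
    intro i t
    rfl
  let ψ : ↥(D.posUnipotent F) →* ℂˣ :=
    { toFun := fun u => ∏ i : Fin D.rank, η i (Multiplicative.ofAdd (χ i (u : GL D.Idx F)))
      map_one' := by
        apply Finset.prod_eq_one
        intro i _
        rw [Subgroup.coe_one, hχ1, ofAdd_zero, map_one]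
      map_mul' := by
        intro a b
        rw [← Finset.prod_mul_distrib]
        apply Finset.prod_congr rfl
        intro i _
        rw [Subgroup.coe_mul, hχadd i _ a.2 _ b.2, ofAdd_add, map_mul] }
  refine ⟨ψ, fun s t hs => ?_⟩
  change ((∏ i : Fin D.rank, η i (Multiplicative.ofAdd (χ i (xG hD s t))) : ℂˣ) : ℂ) = _
  rw [Units.coe_prod, Finset.prod_range (fun i => if s = D.simple i then (ξ i t : ℂ) else 1)]
  apply Finset.prod_congr rfl
  intro i _
  rw [hη, hχx i s t hs]
  by_cases h : s = D.simple i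
  · rw [if_pos h, if_pos h]
  · rw [if_neg h, if_neg h, AddChar.map_zero_eq_one]

end Cfsg.Agent.Lib.Helper5.StChev
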