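import Cfsg.Agent.Lib.Helper5.StChev.NegAll
import Cfsg.Agent.Lib.Helper18.UFactTabs
import Cfsg.Agent.S1036
import Mathlib

/-!
# S2318-[C-CELL] (project of helper82): off the big cell `B n₀ U` some fundamental root group is conjugated into `U`
-/

set_option autoImplicit false

namespace Cfsg.Agent.Lib.Helper5.StChev

open Cfsg Cfsg.Lie Cfsg.Agent.Lib.Helper18

universe u
variable {F : Type u} [Field F] {D : ChevalleyDatum}

/-- **S2318-[C-CELL]** (the hypothesis `IsLongestRep D F n₀` is stated unfolded) -/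
theorem cell_dichotomy (hD : D ∈ [chevG2, chevB2, chevD4, chevF4, chevE6, chevE7, chevE8])
    (n₀ : GL D.Idx F)
    (hn₀ : n₀ ∈ D.monomialSubgroup F ∧
      (D.posUnipotent F).map (MulAut.conj n₀).toMonoidHom = D.negUnipotent F)
    (g : GL D.Idx F) (hg : g ∈ D.group F) :
    (∃ b ∈ D.borelSubgroup F, ∃ u ∈ D.posUnipotent F, g = b * n₀ * u) ∨
      ∃ i < D.rank, ∃ u' ∈ D.posUnipotent F, ∀ t : F,
        g * (u'⁻¹ * xG hD (D.simple i) t * u') * g⁻¹ ∈ D.posUnipotent F := by
  obtain ⟨C⟩ := nonempty_chevData.{u} D hD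
  obtain ⟨L⟩ := nonempty_levelData D hD
  obtain ⟨b, hb, n, hn, u, hu, rfl⟩ := exists_bruhat_form (F := F) hD C L g hg
  have huU : u ∈ D.posUnipotent F := closure_UnegSet_le D n hu
  have hHB : D.diagonalSubgroup F ≤ D.borelSubgroup F := le_sup_right
  have hHN : D.diagonalSubgroup F ≤ D.monomialSubgroup F := le_sup_left
  by_cases hall : ∀ i < D.rank,
      (D.rootSubgroup F (D.simple i)).map (MulAut.conj n).toMonoidHom ≤ D.negUnipotent F
  · left
    have h1 := mem_diagonal_of_all_neg hD n₀ n hn₀ hn hall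
    have hnorm := Cfsg.Agent.S1038.result (F := F) D hD
    have h2 := hnorm.conj_mem ⟨n₀⁻¹ * n, hHN h1⟩ (Subgroup.mem_subgroupOf.2 h1) ⟨n₀, hn₀.1⟩
    rw [Subgroup.mem_subgroupOf] at h2
    have h3 : n₀ * (n₀⁻¹ * n) * n₀⁻¹ ∈ D.diagonalSubgroup F := h2
    refine ⟨b * (n₀ * (n₀⁻¹ * n) * n₀⁻¹), mul_mem hb (hHB h3), u, huU, ?_⟩
    group
  · right
    push Not at hall
    obtain ⟨i, hi, hnot⟩ := hall
    have hpos : (D.rootSubgroup F (D.simple i)).map (MulAut.conj n).toMonoidHom ≤ D.posUnipotent F := by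
      rcases map_conj_rootSubgroup_le hD C n hn (D.simple i) (C.simple_lt i hi) with h | h
      · exact absurd h hnot
      · exact h
    refine ⟨i, hi, u, huU, fun t => ?_⟩
    have e : b * n * u * (u⁻¹ * xG hD (D.simple i) t * u) * (b * n * u)⁻¹
        = b * (n * xG hD (D.simple i) t * n⁻¹) * b⁻¹ := by group
    rw [e]
    have h1 : n * xG hD (D.simple i) t * n⁻¹ ∈ D.posUnipotent F :=
      hpos ⟨xG hD (D.simple i) t, (mem_rootSubgroup_iff hD _ _).2 ⟨t, rfl⟩, rfl⟩
    have hBU : D.borelSubgroup F ≤ Subgroup.normalizer (D.posUnipotent F : Set (GL D.Idx F)) := by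
      unfold ChevalleyDatum.borelSubgroup
      exact sup_le Subgroup.le_normalizer (Cfsg.Agent.S1036.result D hD).1
    exact ((Subgroup.mem_normalizer_iff).1 (hBU hb) _).1 h1

end Cfsg.Agent.Lib.Helper5.StChev
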