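import Cfsg.Agent.Lib.Helper18.Bruhat1
import Cfsg.Agent.Lib.Helper18.Torus
import Cfsg.Agent.S1034
import Cfsg.Agent.S1045
import Mathlib

/-!
# S2318-[C-HGEN] (project of helper82): `H` is generated by the `H ∩ ⟨X_{p_i}, n_i X_{p_i} n_i⁻¹⟩`
-/

set_option autoImplicit false

namespace Cfsg.Agent.Lib.Helper5.StChev

open Cfsg Cfsg.Lie Cfsg.Agent.Lib.Helper18

universe u
variable {F : Type u} [Field F] {D : ChevalleyDatum}

/-- `h_{p_i}(c) ∈ ⟨X_{p_i}, n_i X_{p_i} n_i⁻¹⟩` -/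
theorem wordG_hWord_mem (hD : D ∈ [chevG2, chevB2, chevD4, chevF4, chevE6, chevE7, chevE8])
    (C : ChevData.{u} D) (i : ℕ) (hi : i < D.rank) (n : GL D.Idx F)
    (hn : (n : Matrix D.Idx D.Idx F) = D.nMat F (D.simple i) 1) (c : F) :
    wordG hD (D.hWord (D.simple i) c) ∈ D.rootSubgroup F (D.simple i) ⊔
        (D.rootSubgroup F (D.simple i)).map (MulAut.conj n).toMonoidHom := by
  have hr := C.simple_lt i hi
  have hnval : n = nG hD (D.simple i) hr := by
    rw [← sG_of_lt hD C i hi]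
    exact Units.ext (by rw [hn, coe_sG hD C i hi])
  have hpos : ∀ t : F, xG hD (D.simple i) t ∈ D.rootSubgroup F (D.simple i) ⊔
      (D.rootSubgroup F (D.simple i)).map (MulAut.conj n).toMonoidHom := fun t =>
    Subgroup.mem_sup_left ((mem_rootSubgroup_iff hD _ _).2 ⟨t, rfl⟩)
  have hneg : ∀ s : F, xG hD (D.neg (D.simple i)) s ∈ D.rootSubgroup F (D.simple i) ⊔
      (D.rootSubgroup F (D.simple i)).map (MulAut.conj n).toMonoidHom := by
    intro s
    apply Subgroup.mem_sup_right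
    refine ⟨xG hD (D.simple i) ((C.eta i (D.simple i) : F) * s),
      (mem_rootSubgroup_iff hD _ _).2 ⟨_, rfl⟩, ?_⟩
    show n * xG hD (D.simple i) ((C.eta i (D.simple i) : F) * s) * n⁻¹ = _
    rw [hnval, nG_conj_xG hD C i _ hi hr, w_simple C i hi, ← C.neg_eq _ hr, ← mul_assoc,
      C.eta_mul_self, one_mul]
  unfold ChevalleyDatum.hWord ChevalleyDatum.nWord
  rw [wordG_append]
  simp only [wordG_cons, wordG_nil, mul_one]
  exact mul_mem (mul_mem (hpos _) (mul_mem (hneg _) (hpos _))) (mul_mem (hpos _) (mul_mem (hneg _) (hpos _)))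

/-- **S2318-[C-HGEN]** -/
theorem diagonal_le_iSup (hD : D ∈ [chevG2, chevB2, chevD4, chevF4, chevE6, chevE7, chevE8])
    (ns : ℕ → GL D.Idx F)
    (hns : ∀ i < D.rank, ((ns i : GL D.Idx F) : Matrix D.Idx D.Idx F) = D.nMat F (D.simple i) 1) :
    D.diagonalSubgroup F ≤ ⨆ i ∈ Finset.range D.rank, D.diagonalSubgroup F ⊓
      (D.rootSubgroup F (D.simple i) ⊔
        (D.rootSubgroup F (D.simple i)).map (MulAut.conj (ns i)).toMonoidHom) := by
  obtain ⟨C⟩ := nonempty_chevData.{u} D hD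
  intro g hg
  obtain ⟨c, hc, hgm⟩ := Cfsg.Agent.S1034.result D hD g hg
  have hg' : g = ((List.range D.rank).map fun i => wordG hD (D.hWord (D.simple i) (c i))).prod := by
    apply Units.ext
    rw [hgm, wordMat_flatMap, ← Units.coeHom_apply, map_list_prod, List.map_map]
    congr 1
  rw [hg']
  apply Subgroup.list_prod_mem
  intro x hx
  obtain ⟨i, hi, rfl⟩ := List.mem_map.1 hx
  rw [List.mem_range] at hi
  apply Subgroup.mem_iSup_of_mem i
  apply Subgroup.mem_iSup_of_mem (Finset.mem_range.2 hi)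
  refine ⟨?_, wordG_hWord_mem hD C i hi (ns i) (hns i hi) (c i)⟩
  exact Subgroup.subset_closure ⟨D.simple i, c i, C.simple_lt i hi, hc i hi, coe_wordG hD _⟩

end Cfsg.Agent.Lib.Helper5.StChev
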