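import Cfsg.Agent.Lib.Helper5.StChev.AsmRoot
import Cfsg.Agent.Lib.Helper89.StChev.W0Simple
import Mathlib

/-!
# S2318-[C-ASM-ROOT] (project of helper82): final form, with [C-W0SIMPLE] of helper89
-/

set_option autoImplicit false

namespace Cfsg.Agent.Lib.Helper5.StChev

open Cfsg Cfsg.Lie Cfsg.Agent.Lib.Helper18 Cfsg.Agent.Lib.Helper82.StUniq Cfsg.Agent.Lib.Helper82.StChev

universe u
variable {F : Type u} [Field F] {D : ChevalleyDatum}

/-- **S2318-[C-ASM-ROOT]** -/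
theorem exists_rootDatum [Fintype F] (hD : D ∈ [chevG2, chevB2, chevD4, chevF4, chevE6, chevE7, chevE8])
    (n₀ : ↥(D.group F)) (hn₀ : IsLongestRep D F (n₀ : GL D.Idx F)) (i : ℕ) (hi : i < D.rank)
    (n : ↥(D.group F))
    (hn : ((n : GL D.Idx F) : Matrix D.Idx D.Idx F) = D.nMat F (D.simple i) 1) :
    ∃ R : RootDatum (chevS (F := F) hD) (nondeg hD), R.n = n ∧
      R.X = (D.rootSubgroup F (D.simple i)).subgroupOf (D.group F) :=
  exists_rootDatum_of hD n₀ hn₀ i hi n hn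
    (Cfsg.Agent.Lib.Helper89.StChev.longest_conj_simple hD (n₀ : GL D.Idx F) hn₀ i hi (n : GL D.Idx F) hn)

end Cfsg.Agent.Lib.Helper5.StChev
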