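import Cfsg.Agent.Lib.Helper82.StUniq.ChevDefs
import Cfsg.Agent.Lib.Helper5.StChev.Cell
import Mathlib

/-!
# S2318-[C-ASM-CELL] (project of helper82): the generic cell hypothesis for non-degenerate characters
-/

set_option autoImplicit false

namespace Cfsg.Agent.Lib.Helper5.StChev

open Cfsg Cfsg.Lie Cfsg.Agent.Lib.Helper18 Cfsg.Agent.Lib.Helper82.StUniq Cfsg.Agent.Lib.Helper82.StChev

universe u
variable {F : Type u} [Field F] {D : ChevalleyDatum}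

/-- **S2318-[C-ASM-CELL]** -/
theorem cellHyp_nondeg (hD : D ∈ [chevG2, chevB2, chevD4, chevF4, chevE6, chevE7, chevE8])
    (n₀ : ↥(D.group F)) (hn₀ : IsLongestRep D F (n₀ : GL D.Idx F))
    (ψ : ↥(chevS (F := F) hD).U →* ℂˣ) (hψ : ψ ∈ nondeg hD) : CellHyp (chevS hD) n₀ ψ := by
  obtain ⟨hBG, hNG, -⟩ := Cfsg.Agent.S1043.result (F := F) D hD
  have hUB : D.posUnipotent F ≤ D.borelSubgroup F := le_sup_left
  intro g hg
  rcases cell_dichotomy hD (n₀ : GL D.Idx F) hn₀ (g : GL D.Idx F) g.2 with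
    ⟨b, hb, u, hu, e⟩ | ⟨i, hi, u', hu', hall⟩
  · exfalso
    apply hg
    exact ⟨⟨b, hBG hb⟩, mem_BG.2 hb, ⟨u, hBG (hUB hu)⟩, mem_UG.2 hu, Subtype.ext e⟩
  · obtain ⟨t, hs, hne⟩ := hψ.2 i hi
    -- `x = g (u'⁻¹ x_{p_i}(t) u') g⁻¹`
    let u'' : ↥(D.group F) := ⟨u', hBG (hUB hu')⟩
    have hu'' : u'' ∈ (chevS (F := F) hD).U := mem_UG.2 hu'
    have hxE : xE hD (D.simple i) t ∈ (chevS (F := F) hD).U := xE_mem_UG hD _ t hs
    have hy : u''⁻¹ * xE hD (D.simple i) t * u'' ∈ (chevS (F := F) hD).U :=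
      Subgroup.mul_mem _ (Subgroup.mul_mem _ (Subgroup.inv_mem _ hu'') hxE) hu''
    have hx : g * (u''⁻¹ * xE hD (D.simple i) t * u'') * g⁻¹ ∈ (chevS (F := F) hD).U := mem_UG.2 (hall t)
    have e1 : g⁻¹ * (g * (u''⁻¹ * xE hD (D.simple i) t * u'') * g⁻¹) * g
        = u''⁻¹ * xE hD (D.simple i) t * u'' := by group
    refine ⟨g * (u''⁻¹ * xE hD (D.simple i) t * u'') * g⁻¹, hx, by rw [e1]; exact hy, ?_⟩
    have e2 : (⟨g⁻¹ * (g * (u''⁻¹ * xE hD (D.simple i) t * u'') * g⁻¹) * g, by rw [e1]; exact hy⟩ :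
        ↥(chevS (F := F) hD).U) = (⟨u'', hu''⟩ : ↥(chevS (F := F) hD).U)⁻¹ *
          ⟨xE hD (D.simple i) t, hxE⟩ * ⟨u'', hu''⟩ := Subtype.ext e1
    rw [e2, map_mul, map_mul, map_inv, mul_comm, ← mul_assoc, mul_inv_cancel, one_mul]
    exact hne

end Cfsg.Agent.Lib.Helper5.StChev
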