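import Cfsg.Agent.Lib.Helper18.Bruhat1
import Cfsg.Agent.Lib.Helper18.Borel
import Cfsg.Agent.Lib.Helper46.StChev.PCov
import Cfsg.Agent.S1037
import Cfsg.Agent.S1038
import Cfsg.Agent.S1045
import Mathlib

/-!
# S2318-[C-MP] (project of helper82): `V ∩ P_i = n_i X_{p_i} n_i⁻¹`
-/

set_option autoImplicit false

namespace Cfsg.Agent.Lib.Helper5.StChev

open Cfsg Cfsg.Lie Cfsg.Agent.Lib.Helper18

universe u
variable {F : Type u} [Field F] {D : ChevalleyDatum}

/-- **S2318-[C-MP]** (the hypothesis `IsLongestRep D F n₀` is stated unfolded) -/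
theorem eq_conj_of_longest_conj_mem (hD : D ∈ [chevG2, chevB2, chevD4, chevF4, chevE6, chevE7, chevE8])
    (n₀ : GL D.Idx F)
    (hn₀ : n₀ ∈ D.monomialSubgroup F ∧
      (D.posUnipotent F).map (MulAut.conj n₀).toMonoidHom = D.negUnipotent F)
    (i : ℕ) (hi : i < D.rank) (n : GL D.Idx F)
    (hn : (n : Matrix D.Idx D.Idx F) = D.nMat F (D.simple i) 1)
    (v : GL D.Idx F) (hv : v ∈ D.parabolicSubgroup F {i})
    (h : n₀⁻¹ * v * n₀ ∈ D.posUnipotent F) :
    ∃ t : F, v = n * xG hD (D.simple i) t * n⁻¹ := by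
  obtain ⟨C⟩ := nonempty_chevData.{u} D hD
  have hp := C.simple_lt i hi
  have hpge := C.half_le_simple i hi
  have hnr := C.nroots_eq
  have hev := C.heven
  have hnval : n = nG hD (D.simple i) hp := by
    rw [← sG_of_lt hD C i hi]
    exact Units.ext (by rw [hn, coe_sG hD C i hi])
  have hnN : n ∈ D.monomialSubgroup F := by
    rw [hnval]; exact nG_mem_monomial hD _ _
  have hUB : D.posUnipotent F ≤ D.borelSubgroup F := le_sup_left
  have hHB : D.diagonalSubgroup F ≤ D.borelSubgroup F := le_sup_right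
  have hHN : D.diagonalSubgroup F ≤ D.monomialSubgroup F := le_sup_left
  have hrpos : D.IsPosRoot (D.simple i) := (isPosRoot_iff hD _).2 ⟨hp, hpge⟩
  have hnegr : D.neg (D.simple i) < D.nroots / 2 := by
    rw [C.neg_eq _ hp]
    unfold FastDatum.neg
    omega
  have hrneg : D.IsNegRoot (D.neg (D.simple i)) :=
    isNegRoot_of_lt D (signOK_of_mem D hD) _ (by omega) hnegr
  -- `v ∈ V`
  have hvV : v ∈ D.negUnipotent F := by
    rw [← hn₀.2]
    refine ⟨n₀⁻¹ * v * n₀, h, ?_⟩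
    show n₀ * (n₀⁻¹ * v * n₀) * n₀⁻¹ = v
    group
  have hBV := (Cfsg.Agent.S1037.result (F := F) D hD).1
  have hconj : ∀ s : F, n * xG hD (D.simple i) ((C.eta i (D.simple i) : F) * s) * n⁻¹
      = xG hD (D.neg (D.simple i)) s := by
    intro s
    rw [hnval, nG_conj_xG hD C i _ hi hp, w_simple C i hi, ← C.neg_eq _ hp, ← mul_assoc,
      C.eta_mul_self, one_mul]
  rcases Cfsg.Agent.Lib.Helper46.StChev.parabolic_cover hD i hi n hn v hv with hvB | ⟨b, hb, t, e⟩
  · have h1 : v ∈ D.borelSubgroup F ⊓ D.negUnipotent F := ⟨hvB, hvV⟩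
    rw [hBV, Subgroup.mem_bot] at h1
    refine ⟨0, ?_⟩
    rw [h1, xG_zero]
    group
  · by_cases ht : t = 0
    · exfalso
      subst ht
      rw [xG_zero, mul_one] at e
      have hu₀ : n₀⁻¹ * v * n₀ ∈ Subgroup.closure (UnegSet D F n₀) := by
        have hle : D.posUnipotent F ≤ Subgroup.closure (UnegSet D F n₀) := by
          unfold ChevalleyDatum.posUnipotent
          apply Subgroup.closure_mono
          rintro g ⟨r, t, hr, hg⟩
          refine ⟨r, t, hr, ?_, hg⟩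
          rw [← hn₀.2]
          apply Subgroup.map_mono
          unfold ChevalleyDatum.rootSubgroup ChevalleyDatum.posUnipotent
          apply Subgroup.closure_mono
          rintro g' ⟨t', hg'⟩
          exact ⟨r, t', hr, hg'⟩
        exact hle h
      have heq : b * (n * n₀) * 1 = 1 * n₀ * (n₀⁻¹ * v * n₀) := by
        rw [e]; group
      have h1 := (bruhat_form_unique hD C b 1 (n * n₀) n₀ 1 (n₀⁻¹ * v * n₀) hb (one_mem _)
        (mul_mem hnN hn₀.1) hn₀.1 (one_mem _) hu₀ heq).1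
      have hnorm := Cfsg.Agent.S1038.result (F := F) D hD
      have h2 := hnorm.conj_mem ⟨(n * n₀)⁻¹ * n₀, hHN h1⟩ (Subgroup.mem_subgroupOf.2 h1) ⟨n₀, hn₀.1⟩
      rw [Subgroup.mem_subgroupOf] at h2
      have h3 : n₀ * ((n * n₀)⁻¹ * n₀) * n₀⁻¹ ∈ D.diagonalSubgroup F := h2
      have h4 : n₀ * ((n * n₀)⁻¹ * n₀) * n₀⁻¹ = n⁻¹ := by group
      rw [h4] at h3
      have h5 : n ∈ D.borelSubgroup F := by
        have := inv_mem h3
        rw [inv_inv] at this
        exact hHB this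
      exact Cfsg.Agent.Lib.Helper46.StChev.nMat_not_mem_borel hD i hi n hn h5
    · obtain ⟨hh, hhH, hid⟩ := exists_xG_neg_eq hD (D.simple i) hp t⁻¹ (inv_ne_zero ht)
      rw [inv_inv] at hid
      have e2 : v = (b * hh⁻¹ * (xG hD (D.simple i) t)⁻¹) * xG hD (D.neg (D.simple i)) t⁻¹ := by
        rw [e, hid, hnval]
        group
      have hxU : xG hD (D.simple i) t ∈ D.posUnipotent F := xG_mem_posUnipotent hD _ _ hrpos
      have hb' : b * hh⁻¹ * (xG hD (D.simple i) t)⁻¹ ∈ D.borelSubgroup F :=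
        Subgroup.mul_mem _ (Subgroup.mul_mem _ hb (Subgroup.inv_mem _ (hHB hhH)))
          (Subgroup.inv_mem _ (hUB hxU))
      have hxV : xG hD (D.neg (D.simple i)) t⁻¹ ∈ D.negUnipotent F :=
        Subgroup.subset_closure ⟨_, _, hrneg, rfl⟩
      have h1 : b * hh⁻¹ * (xG hD (D.simple i) t)⁻¹ ∈ D.borelSubgroup F ⊓ D.negUnipotent F := by
        refine Subgroup.mem_inf.2 ⟨hb', ?_⟩
        have e3 : b * hh⁻¹ * (xG hD (D.simple i) t)⁻¹ = v * (xG hD (D.neg (D.simple i)) t⁻¹)⁻¹ := by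
          rw [e2]; group
        rw [e3]
        exact Subgroup.mul_mem _ hvV (Subgroup.inv_mem _ hxV)
      rw [hBV, Subgroup.mem_bot] at h1
      refine ⟨(C.eta i (D.simple i) : F) * t⁻¹, ?_⟩
      rw [hconj, e2, h1, one_mul]

end Cfsg.Agent.Lib.Helper5.StChev
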