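import Cfsg.Agent.Lib.Helper82.StUniq.ChevDefs
import Cfsg.Agent.Lib.Helper46.StChev.PB
import Cfsg.Agent.Lib.Helper46.StChev.PCov
import Cfsg.Agent.Lib.Helper5.StChev.MP
import Cfsg.Agent.Lib.Helper5.StChev.NonDeg
import Mathlib

/-!
# S2318-[C-ASM-ROOT] (project of helper82): the `RootDatum` of the `i`-th fundamental reflection

`exists_rootDatum_of` takes the conclusion of [C-W0SIMPLE] as a hypothesis.
-/

set_option autoImplicit false

namespace Cfsg.Agent.Lib.Helper5.StChev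

open Cfsg Cfsg.Lie Cfsg.Agent.Lib.Helper18 Cfsg.Agent.Lib.Helper82.StUniq Cfsg.Agent.Lib.Helper82.StChev

universe u
variable {F : Type u} [Field F] {D : ChevalleyDatum}

theorem simple_inj' (hD : D ∈ [chevG2, chevB2, chevD4, chevF4, chevE6, chevE7, chevE8])
    (i j : ℕ) (hi : i < D.rank) (hj : j < D.rank) (h : D.simple i = D.simple j) : i = j := by
  have key : ∀ i < D.rank, ∀ j < D.rank, D.simple i = D.simple j → i = j := by
    simp only [List.mem_cons, List.not_mem_nil, or_false] at hD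
    rcases hD with rfl | rfl | rfl | rfl | rfl | rfl | rfl <;> decide
  exact key i hi j hj h

/-- the value of the character of [C-NONDEG] at a fundamental root element -/
theorem prod_simple_eq (hD : D ∈ [chevG2, chevB2, chevD4, chevF4, chevE6, chevE7, chevE8])
    (Ξ : ℕ → AddChar F ℂ) (k : ℕ) (hk : k < D.rank) (t : F) :
    (∏ k' ∈ Finset.range D.rank, if D.simple k = D.simple k' then (Ξ k' t : ℂ) else 1) = Ξ k t := by
  rw [Finset.prod_eq_single k]
  · rw [if_pos rfl]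
  · intro k' hk' hne
    rw [if_neg]
    intro h
    exact hne (simple_inj' hD k k' hk (Finset.mem_range.1 hk') h).symm
  · intro h
    exact absurd (Finset.mem_range.2 hk) h

theorem exists_rootDatum_of [Fintype F] (hD : D ∈ [chevG2, chevB2, chevD4, chevF4, chevE6, chevE7, chevE8])
    (n₀ : ↥(D.group F)) (hn₀ : IsLongestRep D F (n₀ : GL D.Idx F)) (i : ℕ) (hi : i < D.rank)
    (n : ↥(D.group F))
    (hn : ((n : GL D.Idx F) : Matrix D.Idx D.Idx F) = D.nMat F (D.simple i) 1)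
    (hW0 : ∃ j < D.rank, ∃ c : F, c ≠ 0 ∧ ∀ t : F,
      (n₀ : GL D.Idx F)⁻¹ * ((n : GL D.Idx F) * xG hD (D.simple i) t * (n : GL D.Idx F)⁻¹) * (n₀ : GL D.Idx F)
        = xG hD (D.simple j) (c * t)) :
    ∃ R : RootDatum (chevS (F := F) hD) (nondeg hD), R.n = n ∧
      R.X = (D.rootSubgroup F (D.simple i)).subgroupOf (D.group F) := by
  classical
  obtain ⟨C⟩ := nonempty_chevData.{u} D hD
  obtain ⟨hBG, hNG, -⟩ := Cfsg.Agent.S1043.result (F := F) D hD
  have hp := C.simple_lt i hi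
  have hrpos : D.IsPosRoot (D.simple i) := (isPosRoot_iff hD _).2 ⟨hp, C.half_le_simple i hi⟩
  have hnC : (n : GL D.Idx F) = sG hD C i := Units.ext (by rw [hn, coe_sG hD C i hi])
  obtain ⟨j, hj, c, hc, hW⟩ := hW0
  have hjpos : D.IsPosRoot (D.simple j) :=
    (isPosRoot_iff hD _).2 ⟨C.simple_lt j hj, C.half_le_simple j hj⟩
  have hXmem : ∀ x : ↥(D.group F), x ∈ (D.rootSubgroup F (D.simple i)).subgroupOf (D.group F) ↔
      ∃ t : F, (x : GL D.Idx F) = xG hD (D.simple i) t := by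
    intro x
    rw [Subgroup.mem_subgroupOf, mem_rootSubgroup_iff hD]
  have hXE : ∀ t : F, xE hD (D.simple i) t ∈ (D.rootSubgroup F (D.simple i)).subgroupOf (D.group F) :=
    fun t => (hXmem _).2 ⟨t, rfl⟩
  have hmX : ∀ x ∈ (D.rootSubgroup F (D.simple i)).subgroupOf (D.group F),
      n₀⁻¹ * (n * x * n⁻¹) * n₀⁻¹⁻¹ ∈ (chevS (F := F) hD).U := by
    intro x hx
    obtain ⟨t, ht⟩ := (hXmem x).1 hx
    rw [inv_inv]
    apply mem_UG.2
    show (n₀ : GL D.Idx F)⁻¹ * ((n : GL D.Idx F) * (x : GL D.Idx F) * (n : GL D.Idx F)⁻¹) * (n₀ : GL D.Idx F) ∈ _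
    rw [ht, hW]
    exact xG_mem_posUnipotent hD _ _ hjpos
  -- the additive character `ξ'` of a character `ξ` of `X`
  have hΨ : ∀ ξ : ↥((D.rootSubgroup F (D.simple i)).subgroupOf (D.group F)) →* ℂˣ, ξ ≠ 1 →
      ∃ ψ ∈ nondeg (F := F) hD, ∀ (x : ↥(D.group F))
        (hx : x ∈ (D.rootSubgroup F (D.simple i)).subgroupOf (D.group F)),
        ψ ⟨n₀⁻¹ * (n * x * n⁻¹) * n₀⁻¹⁻¹, hmX x hx⟩ = ξ ⟨x, hx⟩ := by
    intro ξ hξ
    let ξ' : AddChar F ℂ :=
      { toFun := fun t => ((ξ ⟨xE hD (D.simple i) t, hXE t⟩ : ℂˣ) : ℂ)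
        map_zero_eq_one' := by
          have : (⟨xE hD (D.simple i) (0 : F), hXE 0⟩ :
              ↥((D.rootSubgroup F (D.simple i)).subgroupOf (D.group F))) = 1 := by
            apply Subtype.ext
            apply Subtype.ext
            show xG hD (D.simple i) (0 : F) = 1
            rw [xG_zero]
          rw [this, map_one, Units.val_one]
        map_add_eq_mul' := by
          intro s t
          have : (⟨xE hD (D.simple i) (s + t), hXE (s + t)⟩ :
              ↥((D.rootSubgroup F (D.simple i)).subgroupOf (D.group F))) =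
              ⟨xE hD (D.simple i) s, hXE s⟩ * ⟨xE hD (D.simple i) t, hXE t⟩ := by
            apply Subtype.ext
            apply Subtype.ext
            show xG hD (D.simple i) (s + t) = xG hD (D.simple i) s * xG hD (D.simple i) t
            rw [xG_mul]
          rw [this, map_mul, Units.val_mul] }
    have hξ'val : ∀ t, ξ' t = ((ξ ⟨xE hD (D.simple i) t, hXE t⟩ : ℂˣ) : ℂ) := fun _ => rfl
    -- `ξ'` is nontrivial
    obtain ⟨t₀, ht₀⟩ : ∃ t₀ : F, ξ' t₀ ≠ 1 := by
      by_contra hcon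
      push Not at hcon
      apply hξ
      ext x
      obtain ⟨t, ht⟩ := (hXmem x.1).1 x.2
      have hx : x = ⟨xE hD (D.simple i) t, hXE t⟩ := Subtype.ext (Subtype.ext ht)
      rw [hx, MonoidHom.one_apply, Units.val_one, ← hξ'val]
      exact hcon t
    -- a nontrivial additive character
    obtain ⟨ξ₀, hξ₀⟩ := (AddChar.exists_apply_ne_zero (α := F) (a := 1)).2 one_ne_zero
    let Ξ : ℕ → AddChar F ℂ := fun k =>
      if k = j then ξ'.compAddMonoidHom (AddMonoidHom.mulLeft c⁻¹) else ξ₀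
    have hΞj : ∀ t : F, Ξ j t = ξ' (c⁻¹ * t) := by
      intro t
      show (if j = j then ξ'.compAddMonoidHom (AddMonoidHom.mulLeft c⁻¹) else ξ₀) t = _
      rw [if_pos rfl]
      rfl
    have hΞne : ∀ k, ∃ t : F, Ξ k t ≠ 1 := by
      intro k
      by_cases hkj : k = j
      · subst hkj
        refine ⟨c * t₀, ?_⟩
        rw [hΞj, ← mul_assoc, inv_mul_cancel₀ hc, one_mul]
        exact ht₀
      · refine ⟨1, ?_⟩
        show (if k = j then ξ'.compAddMonoidHom (AddMonoidHom.mulLeft c⁻¹) else ξ₀) 1 ≠ 1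
        rw [if_neg hkj]
        exact hξ₀
    obtain ⟨ψ, hψ⟩ := exists_char_of_simple hD Ξ
    let ψ' : ↥(chevS (F := F) hD).U →* ℂˣ :=
      { toFun := fun u => ψ ⟨((u : ↥(D.group F)) : GL D.Idx F), mem_UG.1 u.2⟩
        map_one' := map_one ψ
        map_mul' := fun a b => map_mul ψ ⟨((a : ↥(D.group F)) : GL D.Idx F), mem_UG.1 a.2⟩
          ⟨((b : ↥(D.group F)) : GL D.Idx F), mem_UG.1 b.2⟩ }
    have hψ'val : ∀ (s : ℕ) (t : F) (hs : D.IsPosRoot s) (h : xE hD s t ∈ (chevS (F := F) hD).U),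
        ((ψ' ⟨xE hD s t, h⟩ : ℂˣ) : ℂ) =
          ∏ k ∈ Finset.range D.rank, if s = D.simple k then (Ξ k t : ℂ) else 1 := by
      intro s t hs h
      exact hψ s t hs
    refine ⟨ψ', ⟨?_, ?_⟩, ?_⟩
    · intro s t hs hns
      apply Units.ext
      refine (hψ'val s t hs _).trans ?_
      rw [Units.val_one]
      apply Finset.prod_eq_one
      intro k hk
      rw [if_neg (hns k (Finset.mem_range.1 hk))]
    · intro k hk
      obtain ⟨t, ht⟩ := hΞne k
      have hkpos : D.IsPosRoot (D.simple k) :=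
        (isPosRoot_iff hD _).2 ⟨C.simple_lt k hk, C.half_le_simple k hk⟩
      refine ⟨t, hkpos, ?_⟩
      intro h1
      apply ht
      have h2 := hψ'val (D.simple k) t hkpos (xE_mem_UG hD _ t hkpos)
      rw [h1, Units.val_one, prod_simple_eq hD Ξ k hk t] at h2
      exact h2.symm
    · intro x hx
      obtain ⟨t, ht⟩ := (hXmem x).1 hx
      have hx' : (⟨x, hx⟩ : ↥((D.rootSubgroup F (D.simple i)).subgroupOf (D.group F))) =
          ⟨xE hD (D.simple i) t, hXE t⟩ := Subtype.ext (Subtype.ext ht)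
      have harg : (⟨n₀⁻¹ * (n * x * n⁻¹) * n₀⁻¹⁻¹, hmX x hx⟩ : ↥(chevS (F := F) hD).U) =
          ⟨xE hD (D.simple j) (c * t), xE_mem_UG hD _ _ hjpos⟩ := by
        apply Subtype.ext
        apply Subtype.ext
        show (n₀⁻¹ * (n * x * n⁻¹) * n₀⁻¹⁻¹ : ↥(D.group F)).1 = xG hD (D.simple j) (c * t)
        rw [inv_inv]
        show (n₀ : GL D.Idx F)⁻¹ * ((n : GL D.Idx F) * (x : GL D.Idx F) * (n : GL D.Idx F)⁻¹) *
          (n₀ : GL D.Idx F) = _
        rw [ht, hW]
      rw [harg, hx']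
      apply Units.ext
      refine (hψ'val (D.simple j) (c * t) hjpos _).trans ?_
      rw [prod_simple_eq hD Ξ j hj, hΞj, ← mul_assoc, inv_mul_cancel₀ hc, one_mul, hξ'val]
  refine ⟨{ P := (D.parabolicSubgroup F {i}).subgroupOf (D.group F)
            n := n
            X := (D.rootSubgroup F (D.simple i)).subgroupOf (D.group F)
            m := n₀⁻¹
            hBP := ?_
            hnP := ?_
            hnB := ?_
            hcov := ?_
            hXU := ?_
            hXcomm := ?_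
            hnT := ?_
            hnT' := ?_
            hpB := ?_
            hmX := hmX
            hmP := ?_
            hΨ := hΨ }, rfl, rfl⟩
  · intro g hg
    rw [Subgroup.mem_subgroupOf]
    unfold ChevalleyDatum.parabolicSubgroup
    exact Subgroup.mem_sup_left (mem_BG.1 hg)
  · rw [Subgroup.mem_subgroupOf]
    unfold ChevalleyDatum.parabolicSubgroup
    exact Subgroup.mem_sup_right (Subgroup.subset_closure ⟨i, Set.mem_singleton i, hi, hn⟩)
  · intro h
    exact Cfsg.Agent.Lib.Helper46.StChev.nMat_not_mem_borel (F := F) hD i hi (n : GL D.Idx F) hn (mem_BG.1 h)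
  · intro g hg
    rcases Cfsg.Agent.Lib.Helper46.StChev.parabolic_cover (F := F) hD i hi (n : GL D.Idx F) hn
      (g : GL D.Idx F) (Subgroup.mem_subgroupOf.1 hg) with h | ⟨b, hb, t, e⟩
    · left
      exact mem_BG.2 h
    · right
      exact ⟨⟨b, hBG hb⟩, mem_BG.2 hb, xE hD (D.simple i) t, hXE t, Subtype.ext e⟩
  · intro x hx
    obtain ⟨t, ht⟩ := (hXmem x).1 hx
    apply mem_UG.2
    rw [ht]
    exact xG_mem_posUnipotent hD _ _ hrpos
  · intro x hx y hy
    obtain ⟨t, ht⟩ := (hXmem x).1 hx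
    obtain ⟨t', ht'⟩ := (hXmem y).1 hy
    apply Subtype.ext
    show (x : GL D.Idx F) * (y : GL D.Idx F) = (y : GL D.Idx F) * (x : GL D.Idx F)
    rw [ht, ht', xG_mul, xG_mul, add_comm]
  · intro t ht
    apply mem_TG.2
    show (n : GL D.Idx F) * (t : GL D.Idx F) * (n : GL D.Idx F)⁻¹ ∈ _
    rw [hnC]
    exact sG_conj_H hD C i _ (mem_TG.1 ht)
  · intro t ht
    apply mem_TG.2
    show (n : GL D.Idx F)⁻¹ * (t : GL D.Idx F) * (n : GL D.Idx F) ∈ _
    rw [hnC]
    exact sG_inv_conj_H hD C i _ (mem_TG.1 ht)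
  · intro u hu h
    apply mem_UG.2
    exact Cfsg.Agent.Lib.Helper46.StChev.conj_mem_posUnipotent_of_mem_borel (F := F) hD i hi
      (n : GL D.Idx F) hn (u : GL D.Idx F) (mem_UG.1 hu) (mem_BG.1 h)
  · intro v hv h
    rw [inv_inv] at h
    have h' : (n₀ : GL D.Idx F)⁻¹ * (v : GL D.Idx F) * (n₀ : GL D.Idx F) ∈ D.posUnipotent F := mem_UG.1 h
    obtain ⟨t, ht⟩ := eq_conj_of_longest_conj_mem hD (n₀ : GL D.Idx F) hn₀ i hi
      (n : GL D.Idx F) hn (v : GL D.Idx F) (Subgroup.mem_subgroupOf.1 hv) h'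
    exact ⟨xE hD (D.simple i) t, hXE t, Subtype.ext ht⟩

end Cfsg.Agent.Lib.Helper5.StChev
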