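import Cfsg.Agent.Lib.Helper82.StUniq.ChevDefs
import Cfsg.Agent.Lib.Helper82.StUniq.Main
import Cfsg.Agent.Lib.Helper5.StChev.AsmRootFinal
import Cfsg.Agent.Lib.Helper5.StChev.AsmCell
import Cfsg.Agent.Lib.Helper44.StChev.AsmNE
import Cfsg.Agent.Lib.Helper44.StChev.AsmHT
import Cfsg.Agent.Lib.Helper5.ChevSt
import Cfsg.Agent.S2328
import Cfsg.Agent.S1027
import Cfsg.Agent.S1053
import Mathlib

/-!
# S2318-[C-FINAL] (project of helper82): the Steinberg character is the only irreducible character of a Chevalley group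
vanishing on `U \ {1}`
-/

set_option autoImplicit false

namespace Cfsg.Agent.Lib.Helper5.StChev

open Cfsg Cfsg.Lie Cfsg.Agent.Lib.Helper18 Cfsg.Agent.Lib.Helper82.StUniq Cfsg.Agent.Lib.Helper82.StChev

universe u
variable {F : Type u} [Field F] {D : ChevalleyDatum}

/-- a non-trivial element of `U` has order divisible by `p` -/
theorem dvd_orderOf_of_mem_UG [Fintype F] (p : ℕ) [Fact p.Prime] [CharP F p]
    (hD : D ∈ [chevG2, chevB2, chevD4, chevF4, chevE6, chevE7, chevE8])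
    (u : ↥(D.group F)) (hu : u ∈ UG D F) (hne : u ≠ 1) : p ∣ orderOf u := by
  obtain ⟨f, -, hq⟩ := FiniteField.card F p
  have hcard := Cfsg.Agent.S1027.result (F := F) D hD
  have h1 : orderOf (⟨(u : GL D.Idx F), mem_UG.1 hu⟩ : ↥(D.posUnipotent F)) ∣ Nat.card ↥(D.posUnipotent F) :=
    orderOf_dvd_natCard _
  rw [hcard, hq, ← pow_mul] at h1
  have h2 : orderOf (⟨(u : GL D.Idx F), mem_UG.1 hu⟩ : ↥(D.posUnipotent F)) = orderOf u := by
    rw [← Subgroup.orderOf_coe, ← Subgroup.orderOf_coe u]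
  rw [h2] at h1
  obtain ⟨k, -, hk⟩ := (Nat.dvd_prime_pow (Fact.out : p.Prime)).1 h1
  rw [hk]
  have hk0 : k ≠ 0 := by
    intro h0
    rw [h0, pow_zero, orderOf_eq_one_iff] at hk
    exact hne hk
  exact dvd_pow_self p hk0

/-- **S2318-[C-FINAL]** -/
theorem steinberg_unique [Fintype F] (p : ℕ) [Fact p.Prime] [CharP F p]
    (hD : D ∈ [chevG2, chevB2, chevD4, chevF4, chevE6, chevE7, chevE8])
    (χ : ↥(D.group F) → ℂ) (hχ : IsIrrCharacter ↥(D.group F) χ)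
    (hv : ∀ u ∈ UG D F, u ≠ 1 → χ u = 0) : χ = D.steinbergCharacter F := by
  classical
  have : Fintype ↥(D.group F) := Fintype.ofFinite _
  obtain ⟨C⟩ := nonempty_chevData.{u} D hD
  obtain ⟨n₀', hn₀N, hn₀V⟩ := Cfsg.Agent.S1053.result (F := F) D hD
  obtain ⟨hBG, hNG, -⟩ := Cfsg.Agent.S1043.result (F := F) D hD
  have hn₀ : IsLongestRep D F ((⟨n₀', hNG hn₀N⟩ : ↥(D.group F)) : GL D.Idx F) := ⟨hn₀N, hn₀V⟩
  let ns : ℕ → ↥(D.group F) := fun i => ⟨sG hD C i, hNG (sG_mem_monomial hD C i)⟩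
  have hns : ∀ i < D.rank, (((ns i : ↥(D.group F)) : GL D.Idx F) : Matrix D.Idx D.Idx F) =
      D.nMat F (D.simple i) 1 := fun i hi => coe_sG hD C i hi
  choose R hRn hRX using fun i : Fin D.rank =>
    exists_rootDatum hD ⟨n₀', hNG hn₀N⟩ hn₀ i i.2 (ns i) (hns i i.2)
  refine unique_vanishing_character (chevS (F := F) hD) (nondeg hD)
    (Cfsg.Agent.Lib.Helper44.StChev.nondeg_nonempty hD) ⟨n₀', hNG hn₀N⟩
    (fun ψ hψ => cellHyp_nondeg hD _ hn₀ ψ hψ) R ?_ χ (D.steinbergCharacter F) hχ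
    (Cfsg.Agent.Lib.Helper5.ChevSt.steinberg_irr D hD) hv ?_
  · intro θ h
    apply Cfsg.Agent.Lib.Helper44.StChev.theta_eq_one_of_roots hD ns hns θ
    intro i hi t ht hmem
    apply h ⟨i, hi⟩ t ht
    rw [hRX ⟨i, hi⟩, hRn ⟨i, hi⟩]
    exact hmem
  · intro u hu hne
    exact Cfsg.Agent.S2328.result p D hD u (dvd_orderOf_of_mem_UG p hD u hu hne)

end Cfsg.Agent.Lib.Helper5.StChev
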