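import Cfsg.Agent.Lib.Helper18.Bruhat1
import Cfsg.Agent.Lib.Helper18.Borel
import Cfsg.Agent.Lib.Helper5.BNStRes
import Cfsg.Agent.S1038
import Cfsg.Agent.S1040
import Cfsg.Agent.S1042
import Cfsg.Agent.S1043
import Cfsg.Agent.S1045
import Mathlib

/-!
# S2318-[C-NEGALL] (project of helper82)

An element `n` of `N` conjugating every fundamental root group into `V` lies in `n₀ H`, for `n₀ ∈ N` with `n₀ U n₀⁻¹ = V`.
Proof through the (B,N)-pair of S1042: `m = n₀⁻¹ n` conjugates every fundamental root group into `U`, hence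
`m B n_i ⊆ B m n_i B` for every `i`; an element of `N` of positive length has a right descent `s`, for which
`m B s ⊄ B m s B`.
-/

set_option autoImplicit false

namespace Cfsg.Agent.Lib.Helper5.StChev

open Cfsg Cfsg.Lie Cfsg.Agent.Lib.Helper18 Cfsg.Agent.Lib.Helper6 Cfsg.Agent.Lib.Helper5.BNSt

universe u

section abstract

variable {G : Type*} [Group G] (P : Cfsg.BNPair G)

/-- an element of `N` of positive length has a right descent -/
theorem exists_right_descent {n : G} (hn : n ∈ P.N) (h0 : len P n ≠ 0) :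
    ∃ s ∈ P.S, len P (n * s) < len P n := by
  obtain ⟨l, ⟨hl, hrel⟩, hlen⟩ := exists_rep_len P hn
  have hne : l ≠ [] := by
    intro h
    rw [h] at hlen
    exact h0 hlen.symm
  obtain ⟨l', s, rfl⟩ : ∃ l' s, l = l' ++ [s] := ⟨l.dropLast, l.getLast hne, (List.dropLast_append_getLast hne).symm⟩
  have hl' : IsWord P.S l' := fun x hx => hl x (List.mem_append_left _ hx)
  have hs : s ∈ P.S := hl s (List.mem_append_right _ (List.mem_singleton_self s))
  have hsN := P.subset hs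
  refine ⟨s, hs, ?_⟩
  have hprod : (l' ++ [s]).prod = l'.prod * s := by simp
  rw [hprod] at hrel
  have hl'N : l'.prod ∈ P.N := prod_mem_N P hl'
  have h1 : Rel P (l'.prod * s * s) (n * s) := rel_mul_right P (P.N.mul_mem hl'N hsN) hn hsN hrel
  have h2 : Rel P (l'.prod * s * s) l'.prod := rel_mul_sq P hs
  have h3 : Rel P l'.prod (n * s) := rel_trans P (rel_symm P h2) h1
  have h4 : len P (n * s) ≤ l'.length := len_le_of_rep P ⟨hl', h3⟩
  have h5 : (l' ++ [s]).length = l'.length + 1 := by simp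
  omega

/-- right-handed version of `not_good_of_len_le` -/
theorem not_forall_inDC_right {n s : G} (hn : n ∈ P.N) (hs : s ∈ P.S) (h : len P (n * s) ≤ len P n) :
    ¬ ∀ b ∈ P.B, InDC P (n * s) (n * b * s) := by
  intro hall
  have hsN := P.subset hs
  have hninv : n⁻¹ ∈ P.N := P.N.inv_mem hn
  have h1 : len P (s * n⁻¹) = len P (n * s) := by
    have e : s * n⁻¹ = (n * s⁻¹)⁻¹ := by group
    rw [e, len_inv' P (P.N.mul_mem hn (P.N.inv_mem hsN)), len_congr P (rel_mul_inv P hs)]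
  apply not_good_of_len_le P hninv hs (by rw [h1, len_inv' P hn]; exact h)
  intro b hb
  obtain ⟨t, ht, e⟩ := S_inv_eq P hs
  -- `s b n⁻¹ = s⁻¹ (t⁻¹ b) n⁻¹ = (n (t⁻¹ b)⁻¹ s)⁻¹`
  have htinv : t⁻¹ ∈ P.B := P.B.inv_mem ht.1
  have hb' : (t⁻¹ * b)⁻¹ ∈ P.B := P.B.inv_mem (P.B.mul_mem htinv hb)
  have h2 := inDC_inv P (hall _ hb')
  have e1 : (n * (t⁻¹ * b)⁻¹ * s)⁻¹ = s * b * n⁻¹ := by
    have : s = s⁻¹ * t⁻¹ := by rw [e]; group
    calc (n * (t⁻¹ * b)⁻¹ * s)⁻¹ = s⁻¹ * t⁻¹ * b * n⁻¹ := by group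
      _ = s * b * n⁻¹ := by rw [← this]
  have e2 : (n * s)⁻¹ = s⁻¹ * n⁻¹ := by group
  rw [e1, e2] at h2
  exact inDC_of_rel P (rel_inv_mul P hs hninv) h2

/-- an element `n` of `N` with `n B s ⊆ B n s B` for all `s ∈ S` lies in `B` -/
theorem mem_B_of_forall_inDC {n : G} (hn : n ∈ P.N)
    (h : ∀ s ∈ P.S, ∀ b ∈ P.B, InDC P (n * s) (n * b * s)) : n ∈ P.B := by
  rw [← len_eq_zero_iff P hn]
  by_contra h0
  obtain ⟨s, hs, hlt⟩ := exists_right_descent P hn h0
  exact not_forall_inDC_right P hn hs hlt.le (h s hs)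

end abstract

variable {F : Type u} [Field F] {D : ChevalleyDatum}

theorem mem_diagonal_of_conj_le_pos (hD : D ∈ [chevG2, chevB2, chevD4, chevF4, chevE6, chevE7, chevE8])
    (m : GL D.Idx F) (hm : m ∈ D.monomialSubgroup F)
    (hall : ∀ i < D.rank, ∀ t : F, m * xG hD (D.simple i) t * m⁻¹ ∈ D.posUnipotent F) :
    m ∈ D.diagonalSubgroup F := by
  obtain ⟨C⟩ := nonempty_chevData.{u} D hD
  obtain ⟨P, hPB, hPN, hPS⟩ := Cfsg.Agent.S1042.result (F := F) D hD
  obtain ⟨hBG, hNG, -⟩ := Cfsg.Agent.S1043.result (F := F) D hD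
  have hUB : D.posUnipotent F ≤ D.borelSubgroup F := le_sup_left
  have hHB : D.diagonalSubgroup F ≤ D.borelSubgroup F := le_sup_right
  have hmN : (⟨m, hNG hm⟩ : ↥(D.group F)) ∈ P.N := by
    rw [hPN, Subgroup.mem_subgroupOf]; exact hm
  have key : (⟨m, hNG hm⟩ : ↥(D.group F)) ∈ P.B := by
    apply mem_B_of_forall_inDC P hmN
    intro s hs b hb
    rw [hPS] at hs
    obtain ⟨i, hi, hsm⟩ := hs
    rw [hPB, Subgroup.mem_subgroupOf] at hb
    have hsval : (s : GL D.Idx F) = sG hD C i := Units.ext (by rw [hsm, coe_sG hD C i hi])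
    obtain ⟨u, hu, h, hh, e⟩ := (mem_borel_iff D hD _).1 hb
    obtain ⟨a, ha, t, rfl⟩ := exists_Up_mul_xG hD C i hi u hu
    -- `b = a x h = x (x⁻¹ a x) h`
    set x := xG hD (D.simple i) t with hx
    have ha' : x⁻¹ * a * x ∈ Up D F i := by
      have h1 : D.rootSubgroup F (D.simple i) ≤ Subgroup.normalizer (Up D F i : Set (GL D.Idx F)) :=
        rootSubgroup_le_normalizer_Up hD C i hi _ (Or.inl rfl)
      have h2 : x⁻¹ ∈ Subgroup.normalizer (Up D F i : Set (GL D.Idx F)) :=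
        h1 (inv_mem ((mem_rootSubgroup_iff hD _ _).2 ⟨t, rfl⟩))
      have := ((Subgroup.mem_normalizer_iff).1 h2 a).1 ha
      simpa using this
    have hc1 : m * x * m⁻¹ ∈ D.borelSubgroup F := hUB (hall i hi t)
    have hc2 : (sG hD C i)⁻¹ * (x⁻¹ * a * x) * sG hD C i ∈ D.borelSubgroup F :=
      hUB (Up_le_posUnipotent D i (sG_conj_mem_Up hD C i hi _ ha').2)
    have hc3 : (sG hD C i)⁻¹ * h * sG hD C i ∈ D.borelSubgroup F := by
      have hN : sG (F := F) hD C i ∈ D.monomialSubgroup F := sG_mem_monomial hD C i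
      have hnorm := Cfsg.Agent.S1038.result (F := F) D hD
      have hHN : D.diagonalSubgroup F ≤ D.monomialSubgroup F := le_sup_left
      have h2 := hnorm.conj_mem ⟨h, hHN hh⟩ (Subgroup.mem_subgroupOf.2 hh) (⟨sG hD C i, hN⟩⁻¹)
      rw [Subgroup.mem_subgroupOf] at h2
      apply hHB
      simpa using h2
    refine ⟨⟨m * x * m⁻¹, hBG hc1⟩, ?_,
      ⟨(sG hD C i)⁻¹ * (x⁻¹ * a * x) * sG hD C i * ((sG hD C i)⁻¹ * h * sG hD C i),
        hBG (mul_mem hc2 hc3)⟩, ?_, ?_⟩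
    · rw [hPB, Subgroup.mem_subgroupOf]; exact hc1
    · rw [hPB, Subgroup.mem_subgroupOf]; exact mul_mem hc2 hc3
    · apply Subtype.ext
      show m * (b : GL D.Idx F) * (s : GL D.Idx F) =
        m * x * m⁻¹ * (m * (s : GL D.Idx F)) *
          ((sG hD C i)⁻¹ * (x⁻¹ * a * x) * sG hD C i * ((sG hD C i)⁻¹ * h * sG hD C i))
      rw [hsval, ← e]
      group
  rw [hPB, Subgroup.mem_subgroupOf] at key
  have := (Cfsg.Agent.S1040.result (F := F) D hD).2
  rw [← this]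
  exact ⟨key, hm⟩

/-- **S2318-[C-NEGALL]** (stated with the unfolded `IsLongestRep`) -/
theorem mem_diagonal_of_all_neg (hD : D ∈ [chevG2, chevB2, chevD4, chevF4, chevE6, chevE7, chevE8])
    (n₀ n : GL D.Idx F)
    (hn₀ : n₀ ∈ D.monomialSubgroup F ∧
      (D.posUnipotent F).map (MulAut.conj n₀).toMonoidHom = D.negUnipotent F)
    (hn : n ∈ D.monomialSubgroup F)
    (hall : ∀ i < D.rank,
      (D.rootSubgroup F (D.simple i)).map (MulAut.conj n).toMonoidHom ≤ D.negUnipotent F) :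
    n₀⁻¹ * n ∈ D.diagonalSubgroup F := by
  apply mem_diagonal_of_conj_le_pos hD _ (mul_mem (inv_mem hn₀.1) hn)
  intro i hi t
  have h1 : n * xG hD (D.simple i) t * n⁻¹ ∈ D.negUnipotent F :=
    hall i hi ⟨xG hD (D.simple i) t, (mem_rootSubgroup_iff hD _ _).2 ⟨t, rfl⟩, rfl⟩
  rw [← hn₀.2] at h1
  obtain ⟨u, hu, e⟩ := h1
  have e' : n₀ * u * n₀⁻¹ = n * xG hD (D.simple i) t * n⁻¹ := e
  have : n₀⁻¹ * n * xG hD (D.simple i) t * (n₀⁻¹ * n)⁻¹ = u := by
    calc n₀⁻¹ * n * xG hD (D.simple i) t * (n₀⁻¹ * n)⁻¹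
        = n₀⁻¹ * (n * xG hD (D.simple i) t * n⁻¹) * n₀ := by group
      _ = n₀⁻¹ * (n₀ * u * n₀⁻¹) * n₀ := by rw [e']
      _ = u := by group
  rw [this]
  exact hu

end Cfsg.Agent.Lib.Helper5.StChev
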